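import Groth.Agent.H56.RelPC.PushConverse
import Groth.Agent.Lib.DerivedOX.UnitTensor
import Groth.Agent.Lib.ZarCoh.AffineBC
import Groth.Agent.Lib.Perfect.Tensor
import Groth.Agent.S0966

/-!
Base change of complexes along a closed immersion.
-/

set_option autoImplicit false
set_option linter.style.haveILetI false

universe u

open CategoryTheory Limits AlgebraicGeometry HomologicalComplex

attribute [local instance] HasDerivedCategory.standard

namespace Groth.Agent.H56.RelTensorPC

open Groth.Agent.Lib Groth.Agent.Lib.Perfect.Pullback Groth.Agent.Lib.DerivedOX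

variable {X Y : Scheme.{u}}

/-- `𝒪 ⊗ L ≅ L`. -/
noncomputable def oneTensorIso (L : CochainComplex X.Modules ℤ) :
    (DCoh.tensorCx.obj (UnitTensor.one X 0)).obj L ≅ L :=
  UnitTensor.unitShiftIso 0 L ≪≫ (shiftFunctorZero' (CochainComplex X.Modules ℤ) (-0 : ℤ) (by simp)).app L

/-- Direct image on complexes. -/
noncomputable abbrev puC (f : X ⟶ Y) : CochainComplex X.Modules ℤ ⥤ CochainComplex Y.Modules ℤ :=
  (Scheme.Modules.pushforward f).mapHomologicalComplex (ComplexShape.up ℤ)

/-- `c^* c_* ≅ id` on complexes. -/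
noncomputable def pullPushCx (c : X ⟶ Y) [IsClosedImmersion c] (L : CochainComplex X.Modules ℤ) :
    (pC c).obj ((puC c).obj L) ≅ L :=
  HomologicalComplex.Hom.isoOfComponents (fun n => RelPC.pullPushIso c (L.X n))
    fun i j _ => ((Scheme.Modules.pullbackPushforwardAdjunction c).counit.naturality (L.d i j)).symm

/-- Base change of a complex along a closed immersion. -/
theorem nonempty_closedBC {X S X' S' : Scheme.{u}} {c : X ⟶ S} [IsClosedImmersion c] {r : S' ⟶ S}
    {c' : X' ⟶ S'} [IsClosedImmersion c'] {r' : X' ⟶ X} (h : IsPullback r' c' c r)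
    (L : CochainComplex X.Modules ℤ) :
    Nonempty ((pC r).obj ((puC c).obj L) ≅ (puC c').obj ((pC r').obj L)) := by
  haveI : (Coh.structureModule X).IsQuasicoherent :=
    TensorMod.QCohInv.isQCoh_structureModule _
  haveI := ZarCoh.AffineBC.isIso_bc h (Coh.structureModule X)
  -- base change of the structure sheaf
  let e₀ : (puC c').obj (UnitTensor.one X' 0) ≅ (pC r).obj ((puC c).obj (UnitTensor.one X 0)) :=
    (singleMapHomologicalComplex (Scheme.Modules.pushforward c') (ComplexShape.up ℤ) 0).app _ ≪≫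
      (single S'.Modules (ComplexShape.up ℤ) 0).mapIso
        ((Scheme.Modules.pushforward c').mapIso (PicLoc.pullbackStructureIso r').symm ≪≫
          (asIso (ZarCoh.AffineBC.bc h (Coh.structureModule X))).symm) ≪≫
      ((singleMapHomologicalComplex (Scheme.Modules.pullback r) (ComplexShape.up ℤ) 0).app _).symm ≪≫
      (pC r).mapIso ((singleMapHomologicalComplex (Scheme.Modules.pushforward c) (ComplexShape.up ℤ) 0).app _).symm
  let N := (pC r).obj ((puC c).obj L)
  let eN : (pC r').obj L ≅ (pC c').obj N :=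
    (pC r').mapIso (pullPushCx c L).symm ≪≫ (pCComp r' c).app _ ≪≫
      eqToIso (congrArg (fun t => (pC t).obj ((puC c).obj L)) h.w) ≪≫ ((pCComp c' r).app _).symm
  obtain ⟨e₁⟩ := Groth.Agent.S0966.nonempty_cxIso c' (UnitTensor.one X' 0) N
  obtain ⟨e₂⟩ := Groth.Agent.S0966.nonempty_cxIso c (UnitTensor.one X 0) ((puC c).obj L)
  exact ⟨((pC r).mapIso (((DCoh.tensorCx.mapIso (Iso.refl ((puC c).obj (UnitTensor.one X 0)))).app _ ≪≫ e₂ ≪≫
      (puC c).mapIso (oneTensorIso _ ≪≫ pullPushCx c L)))).symm ≪≫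
    (Perfect.Tensor.pullTensorIso r _ _).symm ≪≫
    (DCoh.tensorCx.mapIso e₀.symm).app N ≪≫ e₁ ≪≫
    (puC c').mapIso (oneTensorIso _ ≪≫ eN.symm)⟩

end Groth.Agent.H56.RelTensorPC
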