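import Groth.Agent.H56.RelTensorPC.Main
import Groth.Agent.Lib.BettiExact.TorPull
import Groth.Agent.Lib.DerivedOX.FlatResolve
import Groth.Agent.Lib.DerivedOX.Amplitude
import Groth.Agent.Lib.DerivedOX.PullbackQis

/-!
`E ⊗^L Lf^*F` and `Lf^*F` in the derived category.
-/

set_option autoImplicit false
set_option linter.style.haveILetI false

universe u

open CategoryTheory Limits AlgebraicGeometry HomologicalComplex Pretriangulated

attribute [local instance] HasDerivedCategory.standard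

namespace Groth.Agent.H56.RelTensorPC

open Groth.Agent.Lib Groth.Agent.Lib.Perfect Groth.Agent.Lib.Perfect.Basic Groth.Agent.Lib.Perfect.Pullback
open Groth.Agent.Lib.Perfect.PseudoCoh Groth.Agent.Lib.DerivedOX RelPC
open Groth.Agent.Lib.BettiExact TorPull

variable {X Y S : Scheme.{u}}

theorem exactAt_of_isLE (E : CochainComplex X.Modules ℤ) (b : ℤ) [(DCoh.toD X E).IsLE b] (i : ℤ)
    (hi : b < i) : E.ExactAt i :=
  (exactAt_iff_isZero_homology _ _).2 ((DerivedCategory.isZero_of_isLE (DCoh.toD X E) b i hi).of_iso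
    ((DerivedCategory.homologyFunctorFactors X.Modules i).app E).symm)

theorem exists_flat_rep (F : DCoh.D Y) (d : ℤ) [F.IsLE d] :
    ∃ P : CochainComplex Y.Modules ℤ, DCoh.IsKFlat P ∧ (∀ i, d < i → IsZero (P.X i)) ∧
      Nonempty (DCoh.toD Y P ≅ F) := by
  let F₀ := DerivedCategory.Q.objPreimage F
  let e : DCoh.toD Y F₀ ≅ F := DerivedCategory.Q.objObjPreimageIso F
  haveI : (DCoh.toD Y F₀).IsLE d := DR.Basic.isLE_of_iso' e.symm ‹_›
  obtain ⟨P, s, hP0, hPf, hs⟩ := FlatResolve.exists_flat_resolution F₀ d (exactAt_of_isLE F₀ d)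
  haveI := hs
  exact ⟨P, Amplitude.isKFlat_of_bounded P d hP0 hPf, hP0, ⟨asIso (DerivedCategory.Q.map s) ≪≫ e⟩⟩

variable (f : X ⟶ Y) (g : Y ⟶ S) [LocallyOfFiniteType f] [LocallyOfFiniteType g]

/-- The derived form of `pcRel_tensor_pullback`. -/
theorem pcRel_ltensor_lpull (E : CochainComplex X.Modules ℤ) {a b c d m : ℤ}
    (hE : DerSch.IsPseudoCoherentRel f a (DCoh.toD X E)) [(DCoh.toD X E).IsLE b] (F : DCoh.D Y)
    (hF : DerSch.IsPseudoCoherentRel g c F) [F.IsLE d] [DCoh.HasLpull f] [DCoh.HasLTensorCx E]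
    (had : a + d ≤ m) (hbc : b + c ≤ m) :
    DerSch.IsPseudoCoherentRel (f ≫ g) m ((DCoh.LTensorCx E).obj ((DCoh.Lpull f).obj F)) ∧
      ((DCoh.LTensorCx E).obj ((DCoh.Lpull f).obj F)).IsLE (b + d) := by
  obtain ⟨P, hP, hPd, ⟨eP⟩⟩ := exists_flat_rep F d
  obtain ⟨e⟩ := nonempty_ltensor_lpull_iso f E hP
  let i : DerivedCategory.Q.obj ((DCoh.tensorCx.obj ((pC f).obj P)).obj E) ≅
      (DCoh.LTensorCx E).obj ((DCoh.Lpull f).obj F) :=
    e.symm ≪≫ (DCoh.LTensorCx E).mapIso ((DCoh.Lpull f).mapIso eP)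
  refine ⟨isPseudoCoherentRel_of_iso i (pcRel_tensor_pullback f g hE (exactAt_of_isLE E b) hP hPd
    (isPseudoCoherentRel_of_iso eP.symm hF) had hbc), DR.Basic.isLE_of_iso' i ?_⟩
  refine LocalTor.Main.isLE_toD (b + d) fun k hk => ?_
  exact (LocalTor.Coherent.exactAt_tensor E ((pC f).obj P) (b + 1) d
    (fun n hn => exactAt_of_isLE E b n (by omega))
    (fun n hn => (Scheme.Modules.pullback f).map_isZero (hPd n hn))
    (KFlatPullback.isKFlat_pullback f hP) k (by omega)).of_iso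
    (TensorSymm.commCx E ((pC f).obj P))

/-- Derived pullback along a pseudo-coherent morphism. -/
theorem pcRel_lpull (hf : ∀ n : ℤ, DerSch.IsNPseudoCoherent f n) [DCoh.HasLpull f] (m : ℤ) (F : DCoh.D Y)
    (hF : DerSch.IsPseudoCoherentRel g m F) :
    DerSch.IsPseudoCoherentRel (f ≫ g) m ((DCoh.Lpull f).obj F) := by
  refine pcRel_of_openImms (f ≫ g) fun x => ?_
  obtain ⟨W, hW, hxW, -⟩ := exists_isAffineOpen_mem_and_subset (X := Y) (x := f x) (U := ⊤) trivial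
  haveI : IsAffine (W : Scheme.{u}) := hW
  let P := (KFlat.res Y).obj (DerivedCategory.Q.objPreimage F)
  have hP : DCoh.IsKFlat P := KFlat.isKFlat_res _
  haveI : QuasiIso ((KFlat.aug Y).app (DerivedCategory.Q.objPreimage F)) := KFlat.quasiIso_aug _
  let eP : DCoh.toD Y P ≅ F := asIso (DerivedCategory.Q.map ((KFlat.aug Y).app _)) ≪≫
    DerivedCategory.Q.objObjPreimageIso F
  obtain ⟨eL⟩ := nonempty_lpull_iso f hP
  let L := (pC W.ι).obj P
  have hL : DCoh.IsKFlat L := KFlatPullback.isKFlat_pullback W.ι hP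
  have hLc : DerSch.IsPseudoCoherentRel (W.ι ≫ g) m (DerivedCategory.Q.obj L) :=
    pcRel_pC W.ι g (isPseudoCoherentRel_of_iso eP.symm hF)
  obtain ⟨d, hd⟩ := exists_isLE hLc
  obtain ⟨G, s, hG0, hGf, hs⟩ := FlatResolve.exists_flat_resolution L d (@exactAt_of_isLE _ L d hd)
  haveI := hs
  have hG : DCoh.IsKFlat G := Amplitude.isKFlat_of_bounded G d hG0 hGf
  let j : ((f ⁻¹ᵁ W : X.Opens) : Scheme.{u}) ⟶ X := (f ⁻¹ᵁ W).ι
  let fW := f ∣_ W
  haveI := PullbackQis.quasiIso_pullback fW s hG hL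
  have hu : DerSch.IsPseudoCoherentRel fW (m - d) (DerivedCategory.Q.obj (UnitTensor.one _ 0)) := by
    have h1 := isPseudoCoherentRel_restrict (hf (m - d)) j
    have e : j ≫ f = fW ≫ W.ι := (morphismRestrict_ι f W).symm
    rw [e] at h1
    exact isPseudoCoherentRel_of_iso (RDQ j _ ≪≫ DerivedCategory.Q.mapIso ((rCIso j).app _ ≪≫
      UnitTensor.pullOneIso j 0)) ((isPseudoCoherentRel_comp_iff (pcBase_of_flat W.ι)).1 h1)
  have hone : ∀ i, (0 : ℤ) < i → (UnitTensor.one ((f ⁻¹ᵁ W : X.Opens) : Scheme.{u}) 0).ExactAt i := fun i hi =>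
    ExactAt.of_isZero (isZero_single_obj_X _ _ _ _ (by omega))
  have h := pcRel_tensor_pullback fW (W.ι ≫ g) (m := m) hu hone hG hG0
    (isPseudoCoherentRel_of_iso (asIso (DerivedCategory.Q.map s)).symm hLc) (by omega) (by omega)
  refine ⟨_, j, inferInstance, ⟨x, hxW⟩, rfl, ?_⟩
  have hw : fW ≫ W.ι ≫ g = j ≫ f ≫ g := by
    rw [← Category.assoc, morphismRestrict_ι, Category.assoc]
  rw [hw] at h
  exact isPseudoCoherentRel_of_iso (DerivedCategory.Q.mapIso (TensorSymm.commCx _ _ ≪≫ oneTensorIso _) ≪≫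
    asIso (DerivedCategory.Q.map ((pC fW).map s)) ≪≫
    DerivedCategory.Q.mapIso ((pCComp fW W.ι).app P ≪≫
      eqToIso (congrArg (fun t => (pC t).obj P) (morphismRestrict_ι f W)) ≪≫
      ((pCComp j f).app P).symm ≪≫ ((rCIso j).app _).symm) ≪≫
    (RDQ j _).symm ≪≫ (RD j).mapIso (eL.symm ≪≫ (DCoh.Lpull f).mapIso eP)) h

end Groth.Agent.H56.RelTensorPC
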