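import Groth.Agent.H56.RelTensorPC.TorIndep
import Groth.Agent.H56.RelPC.FlatBCD
import Groth.Agent.Lib.DerivedOX.PullComp

/-!
External tensor products of relatively pseudo-coherent objects.
-/

set_option autoImplicit false
set_option linter.style.haveILetI false

universe u

open CategoryTheory Limits AlgebraicGeometry HomologicalComplex

attribute [local instance] HasDerivedCategory.standard

namespace Groth.Agent.H56.RelTensorPC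

open Groth.Agent.Lib Groth.Agent.Lib.DerivedOX Groth.Agent.Lib.Perfect.Basic Groth.Agent.Lib.Perfect.Pullback
open Groth.Agent.Lib.Perfect.PseudoCoh RelPC

theorem isLE_lpull {X Y : Scheme.{u}} (p : X ⟶ Y) [DCoh.HasLpull p] (K : DCoh.D Y) (b : ℤ) [K.IsLE b] :
    ((DCoh.Lpull p).obj K).IsLE b := by
  obtain ⟨P, hP, hPd, ⟨e⟩⟩ := exists_flat_rep K b
  obtain ⟨eL⟩ := BettiExact.TorPull.nonempty_lpull_iso p hP
  refine DR.Basic.isLE_of_iso' (eL.symm ≪≫ (DCoh.Lpull p).mapIso e) ?_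
  exact LocalTor.Main.isLE_toD b fun k hk =>
    ExactAt.of_isZero ((Scheme.Modules.pullback p).map_isZero (hPd k hk))

theorem nonempty_lpull_comp_iso {U V T : Scheme.{u}} (a : U ⟶ V) (r : V ⟶ T) (c : U ⟶ T) (w : a ≫ r = c)
    [DCoh.HasLpull a] [DCoh.HasLpull r] [DCoh.HasLpull c] (K : DCoh.D T) :
    Nonempty ((DCoh.Lpull a).obj ((DCoh.Lpull r).obj K) ≅ (DCoh.Lpull c).obj K) := by
  subst w
  exact ⟨(PullComp.lpullCompIso a r).app K⟩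

variable {S X₁ Y₁ X₂ Y₂ X Y : Scheme.{u}} (f₁ : X₁ ⟶ Y₁) (q₁ : Y₁ ⟶ S) (f₂ : X₂ ⟶ Y₂) (q₂ : Y₂ ⟶ S)
  (pX₁ : X ⟶ X₁) (pX₂ : X ⟶ X₂) (pY₁ : Y ⟶ Y₁) (pY₂ : Y ⟶ Y₂) (f : X ⟶ Y)
  [LocallyOfFiniteType f₁] [LocallyOfFiniteType f₂]

/-- The external tensor product with a second factor flat over the base. -/
theorem pcRel_external [Flat q₂] [Flat (f₂ ≫ q₂)]
    (hX : IsPullback pX₁ pX₂ (f₁ ≫ q₁) (f₂ ≫ q₂)) (hY : IsPullback pY₁ pY₂ q₁ q₂)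
    (hf₁ : f ≫ pY₁ = pX₁ ≫ f₁) (hf₂ : f ≫ pY₂ = pX₂ ≫ f₂)
    (E₁ : DCoh.D X₁) {a₁ b₁ : ℤ} (h₁ : DerSch.IsPseudoCoherentRel f₁ a₁ E₁) [E₁.IsLE b₁]
    (E₂ : DCoh.D X₂) {a₂ b₂ m : ℤ} (h₂ : DerSch.IsPseudoCoherentRel f₂ a₂ E₂) [E₂.IsLE b₂]
    [DCoh.HasLpull pX₁] [DCoh.HasLpull pX₂] (K₂ : CochainComplex X.Modules ℤ) [DCoh.HasLTensorCx K₂]
    (e : DCoh.toD X K₂ ≅ (DCoh.Lpull pX₂).obj E₂) (hm₁ : a₂ + b₁ ≤ m) (hm₂ : b₂ + a₁ ≤ m) :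
    DerSch.IsPseudoCoherentRel f m ((DCoh.LTensorCx K₂).obj ((DCoh.Lpull pX₁).obj E₁)) ∧
      ((DCoh.LTensorCx K₂).obj ((DCoh.Lpull pX₁).obj E₁)).IsLE (b₂ + b₁) := by
  let r : pullback (f₁ ≫ q₁) q₂ ⟶ X₁ := pullback.fst _ _
  let s : pullback (f₁ ≫ q₁) q₂ ⟶ Y₂ := pullback.snd _ _
  have hWs : IsPullback r s (f₁ ≫ q₁) q₂ := IsPullback.of_hasPullback _ _
  let b : pullback (f₁ ≫ q₁) q₂ ⟶ Y := hY.lift (r ≫ f₁) s (by rw [Category.assoc, hWs.w])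
  have hb₁ : b ≫ pY₁ = r ≫ f₁ := hY.lift_fst _ _ _
  have hb₂ : b ≫ pY₂ = s := hY.lift_snd _ _ _
  let a : X ⟶ pullback (f₁ ≫ q₁) q₂ := hWs.lift pX₁ (pX₂ ≫ f₂) (by rw [hX.w, Category.assoc])
  have har : a ≫ r = pX₁ := hWs.lift_fst _ _ _
  have has : a ≫ s = pX₂ ≫ f₂ := hWs.lift_snd _ _ _
  have hab : a ≫ b = f := hY.hom_ext (by rw [Category.assoc, hb₁, reassoc_of% har, hf₁])
    (by rw [Category.assoc, hb₂, has, hf₂])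
  have sqa : IsPullback pX₂ a f₂ s := (IsPullback.of_right (har.symm ▸ hX) has hWs).flip
  have sqb : IsPullback r b f₁ pY₁ := (IsPullback.of_right (hb₂.symm ▸ hWs.flip) hb₁ hY.flip).flip
  haveI : Flat pY₁ := MorphismProperty.of_isPullback hY.flip ‹Flat q₂›
  haveI : Flat r := MorphismProperty.of_isPullback hWs.flip ‹Flat q₂›
  haveI : LocallyOfFiniteType a := MorphismProperty.of_isPullback sqa ‹LocallyOfFiniteType f₂›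
  haveI : LocallyOfFiniteType b := MorphismProperty.of_isPullback sqb ‹LocallyOfFiniteType f₁›
  haveI := LeftExists.hasLpull a
  haveI := LeftExists.hasLpull r
  have hK : DerSch.IsPseudoCoherentRel a a₂ (DCoh.toD X K₂) :=
    isPseudoCoherentRel_of_iso e.symm (pcRel_lpull_indep sqa (hY := hWs.flip) h₂)
  haveI : (DCoh.toD X K₂).IsLE b₂ := DR.Basic.isLE_of_iso' e.symm (isLE_lpull pX₂ E₂ b₂)
  obtain ⟨er⟩ := RelPC.nonempty_lpull_iso r E₁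
  have hF : DerSch.IsPseudoCoherentRel b a₁ ((DCoh.Lpull r).obj E₁) :=
    isPseudoCoherentRel_of_iso er.symm (isPseudoCoherentRel_baseChange sqb h₁)
  haveI : ((DCoh.Lpull r).obj E₁).IsLE b₁ := isLE_lpull r E₁ b₁
  have h := pcRel_ltensor_lpull a b K₂ hK ((DCoh.Lpull r).obj E₁) hF (b := b₂) (d := b₁) (m := m) hm₁ hm₂
  rw [hab] at h
  obtain ⟨i⟩ := nonempty_lpull_comp_iso a r pX₁ har E₁
  exact ⟨isPseudoCoherentRel_of_iso ((DCoh.LTensorCx K₂).mapIso i) h.1,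
    DR.Basic.isLE_of_iso' ((DCoh.LTensorCx K₂).mapIso i) h.2⟩

/-- The external tensor product with a first factor flat over the base. -/
theorem pcRel_external_flip [Flat q₁] [Flat (f₁ ≫ q₁)]
    (hX : IsPullback pX₁ pX₂ (f₁ ≫ q₁) (f₂ ≫ q₂)) (hY : IsPullback pY₁ pY₂ q₁ q₂)
    (hf₁ : f ≫ pY₁ = pX₁ ≫ f₁) (hf₂ : f ≫ pY₂ = pX₂ ≫ f₂)
    (E₁ : DCoh.D X₁) {a₁ b₁ : ℤ} (h₁ : DerSch.IsPseudoCoherentRel f₁ a₁ E₁) [E₁.IsLE b₁]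
    (E₂ : DCoh.D X₂) {a₂ b₂ m : ℤ} (h₂ : DerSch.IsPseudoCoherentRel f₂ a₂ E₂) [E₂.IsLE b₂]
    [DCoh.HasLpull pX₁] [DCoh.HasLpull pX₂] (K₂ : CochainComplex X.Modules ℤ) [DCoh.HasLTensorCx K₂]
    (e : DCoh.toD X K₂ ≅ (DCoh.Lpull pX₂).obj E₂) (hm₁ : a₁ + b₂ ≤ m) (hm₂ : b₁ + a₂ ≤ m) :
    DerSch.IsPseudoCoherentRel f m ((DCoh.LTensorCx K₂).obj ((DCoh.Lpull pX₁).obj E₁)) := by
  obtain ⟨P₁, hP₁, -, ⟨eP₁⟩⟩ := exists_flat_rep E₁ b₁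
  obtain ⟨P₂, hP₂, -, ⟨eP₂⟩⟩ := exists_flat_rep E₂ b₂
  let K₁ := (BettiExact.TorPull.pbC pX₁).obj P₁
  have hK₁ : DCoh.IsKFlat K₁ := KFlatPullback.isKFlat_pullback pX₁ hP₁
  haveI := LeftExists.hasLTensorCx K₁
  obtain ⟨l₁⟩ := BettiExact.TorPull.nonempty_lpull_iso pX₁ hP₁
  obtain ⟨l₂⟩ := BettiExact.TorPull.nonempty_lpull_iso pX₂ hP₂
  obtain ⟨t⟩ := BettiExact.TorPull.nonempty_ltensor_lpull_iso pX₁ K₂ hP₁
  obtain ⟨t'⟩ := BettiExact.TorPull.nonempty_ltensor_lpull_iso pX₂ K₁ hP₂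
  obtain ⟨c⟩ := QCohLocal.nonempty_tensor_iso hK₁
    (B := K₂) (B' := (BettiExact.TorPull.pbC pX₂).obj P₂) (e ≪≫ (DCoh.Lpull pX₂).mapIso eP₂.symm ≪≫ l₂)
  have h := (pcRel_external f₂ q₂ f₁ q₁ pX₂ pX₁ pY₂ pY₁ f hX.flip hY.flip hf₂ hf₁ E₂ h₂ (b₁ := b₂) E₁ h₁
    (b₂ := b₁) (m := m) K₁ (l₁.symm ≪≫ (DCoh.Lpull pX₁).mapIso eP₁) hm₁ hm₂).1
  exact isPseudoCoherentRel_of_iso ((DCoh.LTensorCx K₁).mapIso ((DCoh.Lpull pX₂).mapIso eP₂.symm) ≪≫ t' ≪≫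
    DerivedCategory.Q.mapIso (TensorSymm.commCx _ _) ≪≫ c.symm ≪≫ t.symm ≪≫
    (DCoh.LTensorCx K₂).mapIso ((DCoh.Lpull pX₁).mapIso eP₁)) h

end Groth.Agent.H56.RelTensorPC
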