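import Groth.Agent.H56.RelPC.RelTorTensor
import Groth.Agent.H56.RelPC.Transport
import Groth.Agent.Lib.DerivedOX.UnitTensor

/-!
Tensor products with bounded complexes of free modules for properties indexed by a level.
-/

set_option autoImplicit false
set_option linter.style.haveILetI false

universe u

open CategoryTheory Limits Pretriangulated AlgebraicGeometry HomologicalComplex
open scoped ZeroObject

attribute [local instance] HasDerivedCategory.standard

namespace Groth.Agent.H56.RelTensorPC

open Groth.Agent.Lib Groth.Agent.Lib.DerivedOX Groth.Agent.Lib.BettiExact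
open Groth.Agent.Lib.Perfect.Basic Groth.Agent.Lib.Perfect.PseudoCoh

/-- A family of properties indexed by a level, compatible with the triangulated operations. -/
structure Closed {X : Scheme.{u}} (P : ℤ → DCoh.D X → Prop) : Prop where
  zero : ∀ m, P m 0
  mono : ∀ {m m' : ℤ} {K : DCoh.D X}, P m K → m ≤ m' → P m' K
  shift : ∀ {m : ℤ} {K : DCoh.D X}, P m K → ∀ n : ℤ, P (m - n) (K⟦n⟧)
  ext₂ : ∀ {m : ℤ} (T : Triangle (DCoh.D X)), T ∈ distTriang (DCoh.D X) → P m T.obj₁ → P m T.obj₃ → P m T.obj₂
  retract : ∀ {m : ℤ} {K L : DCoh.D X}, Retract K L → P m L → P m K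

variable {X : Scheme.{u}} {P : ℤ → DCoh.D X → Prop}

theorem Closed.iso (hP : Closed P) {m : ℤ} {K L : DCoh.D X} (e : K ≅ L) (h : P m K) : P m L :=
  hP.retract ⟨e.inv, e.hom, e.inv_hom_id⟩ h

theorem Closed.of_isZero (hP : Closed P) {m : ℤ} {K : DCoh.D X} (h : IsZero K) : P m K :=
  hP.iso ((isZero_zero _).iso h) (hP.zero m)

/-- An object through which a finite sum of endomorphisms factors. -/
theorem Closed.exists_sum (hP : Closed P) {ι : Type} (s : Finset ι) (C : ι → DCoh.D X)
    {Z : DCoh.D X} (a : ∀ i, C i ⟶ Z) (b : ∀ i, Z ⟶ C i) {m : ℤ} (h : ∀ i ∈ s, P m (C i)) :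
    ∃ (W : DCoh.D X) (i : Z ⟶ W) (r : W ⟶ Z), P m W ∧ i ≫ r = ∑ j ∈ s, b j ≫ a j := by
  classical
  induction s using Finset.induction with
  | empty => exact ⟨0, 0, 0, hP.zero m, by simp⟩
  | insert j s hj ih =>
    obtain ⟨W, i, r, hW, hir⟩ := ih fun k hk => h k (Finset.mem_insert_of_mem hk)
    refine ⟨C j ⊞ W, biprod.lift (b j) i, biprod.desc (a j) r, ?_, ?_⟩
    · exact hP.ext₂ _ (binaryBiproductTriangle_distinguished (C j) W)
        (h j (Finset.mem_insert_self j s)) hW
    · rw [biprod.lift_desc, Finset.sum_insert hj, hir]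

theorem tensor_free_single (hP : Closed P) (L : CochainComplex X.Modules ℤ)
    {c : ℤ} (hL : P c (DerivedCategory.Q.obj L)) (n : ℕ) (b : ℤ) {m : ℤ} (hm : c + b ≤ m) :
    P m ((DCoh.tensorCxQ L).obj ((HomologicalComplex.single X.Modules (.up ℤ) b).obj
      (FlatMod.freeMod X n))) := by
  classical
  let Φ := HomologicalComplex.single X.Modules (ComplexShape.up ℤ) b ⋙ DCoh.tensorCxQ L
  have h1 : P m (Φ.obj (Coh.structureModule X)) :=
    hP.iso ((DerivedCategory.Q.mapIso (UnitTensor.unitShiftIso b L) ≪≫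
      (DerivedCategory.Q.commShiftIso (-b)).app L).symm) (hP.mono (hP.shift hL (-b)) (by omega))
  let C := fun _ : Fin n => Coh.structureModule X
  have hab : ∑ i, Sigma.π C i ≫ Sigma.ι C i = 𝟙 (∐ C) := by
    refine Sigma.hom_ext _ _ fun j => ?_
    rw [Preadditive.comp_sum, Category.comp_id, Finset.sum_eq_single j]
    · exact (Category.assoc _ _ _).symm.trans
        ((congrArg (· ≫ Sigma.ι C j) (Sigma.ι_π_eq_id C j)).trans (Category.id_comp _))
    · intro i _ hi
      exact (Category.assoc _ _ _).symm.trans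
        ((congrArg (· ≫ Sigma.ι C i) (Sigma.ι_π_of_ne C (Ne.symm hi))).trans zero_comp)
    · exact fun h => (h (Finset.mem_univ j)).elim
  haveI : Φ.Additive := inferInstance
  obtain ⟨W, i, r, hW, hir⟩ := hP.exists_sum Finset.univ (fun j => Φ.obj (C j))
    (fun j => Φ.map (Sigma.ι C j)) (fun j => Φ.map (Sigma.π C j)) fun _ _ => h1
  refine hP.retract ⟨i, r, hir.trans ?_⟩ hW
  simp only [← Functor.map_comp, ← Functor.map_sum]
  exact (congrArg Φ.map hab).trans (Φ.map_id _)

/-- A bounded complex of finite free modules tensored with an object of level `c`. -/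
theorem tensor_free (hP : Closed P) (L : CochainComplex X.Modules ℤ) {c m : ℤ}
    (hL : P c (DerivedCategory.Q.obj L)) (E : CochainComplex X.Modules ℤ) (a b : ℤ) (hm : c + b ≤ m)
    (hv : ∀ i, i < a ∨ b < i → IsZero (E.X i))
    (hf : ∀ i, a ≤ i → i ≤ b → ∃ n, Nonempty (E.X i ≅ FlatMod.freeMod X n)) :
    P m ((DCoh.tensorCxQ L).obj E) := by
  obtain ⟨w, hw⟩ : ∃ w : ℕ, b < a + w := ⟨(b - a).toNat + 1, by omega⟩
  induction w generalizing E b with
  | zero =>
    refine hP.of_isZero ((DCoh.tensorCxQ L).map_isZero ((IsZero.iff_id_eq_zero _).2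
      (HomologicalComplex.hom_ext _ _ fun i => (hv i (by omega)).eq_of_src _ _)))
  | succ w ih =>
    rcases lt_or_ge b a with hba | hab
    · exact ih E b hm hv hf (by omega)
    let S := Perfect.Stupid.trunc E b
    let ι : S ⟶ E := Perfect.Stupid.ι E b
    haveI : ∀ i, Mono (ι.f i) := fun i => inferInstanceAs (Mono (kernel.ι _))
    haveI : Mono ι := HomologicalComplex.mono_of_mono_f _ inferInstance
    let T := ShortComplex.mk ι (cokernel.π ι) (cokernel.condition ι)
    have hT : T.ShortExact := ShortComplex.ShortExact.mk'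
      (ShortComplex.exact_cokernel ι) inferInstance inferInstance
    have hTi : ∀ i, (T.map (HomologicalComplex.eval _ _ i)).ShortExact :=
      fun i => hT.map_of_exact _
    have hSz : ∀ i, i ≠ b → IsZero (S.X i) := fun i hi => by
      rcases lt_or_gt_of_ne hi with h | h
      · exact Perfect.Stupid.isZero_trunc E b i h
      · exact IsZero.of_mono (ι.f i) (hv i (Or.inr h))
    have hC0 : ∀ i, b ≤ i → IsZero ((cokernel ι).X i) := fun i hi => by
      haveI := Perfect.Stupid.isIso_ι E b i hi
      exact (hTi i).isIso_f_iff.1 this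
    have hC1 : ∀ i, i < b → IsIso ((cokernel.π ι).f i) := fun i hi =>
      (hTi i).isIso_g_iff.2 (hSz i (by omega))
    have hsplit : ∀ i, Nonempty (T.map (HomologicalComplex.eval _ _ i)).Splitting := fun i => by
      haveI := (hTi i).mono_f
      haveI := (hTi i).epi_g
      by_cases h : b ≤ i
      · haveI : IsIso (T.map (HomologicalComplex.eval _ _ i)).f := Perfect.Stupid.isIso_ι E b i h
        exact ⟨ShortComplex.Splitting.ofExactOfRetraction _ (hTi i).exact (inv _) (IsIso.hom_inv_id _)
          inferInstance⟩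
      · haveI : IsIso (T.map (HomologicalComplex.eval _ _ i)).g := hC1 i (by omega)
        exact ⟨ShortComplex.Splitting.ofExactOfSection _ (hTi i).exact (inv _) (IsIso.inv_hom_id _)
          inferInstance⟩
    have hCz : ∀ i, i < a ∨ b - 1 < i → IsZero ((cokernel ι).X i) := fun i hi => by
      by_cases h : b ≤ i
      · exact hC0 i h
      · exact (hv i (by omega)).of_iso (@asIso _ _ _ _ _ (hC1 i (by omega))).symm
    have hC : P m ((DCoh.tensorCxQ L).obj (cokernel ι)) :=
      ih (cokernel ι) (b - 1) (by omega) hCz (fun i hia hib => by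
        obtain ⟨n, ⟨e⟩⟩ := hf i hia (by omega)
        exact ⟨n, ⟨(@asIso _ _ _ _ _ (hC1 i (by omega))).symm ≪≫ e⟩⟩) (by omega)
    haveI : S.IsStrictlyLE b := (CochainComplex.isStrictlyLE_iff S b).2 fun i hi => hSz i (by omega)
    haveI : S.IsStrictlyGE b := (CochainComplex.isStrictlyGE_iff S b).2 fun i hi => hSz i (by omega)
    obtain ⟨M, ⟨e⟩⟩ := S.exists_iso_single b
    obtain ⟨n, ⟨eb⟩⟩ := hf b hab le_rfl
    let eM : M ≅ FlatMod.freeMod X n :=
      (HomologicalComplex.singleObjXSelf (ComplexShape.up ℤ) b M).symm ≪≫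
        (HomologicalComplex.eval _ (ComplexShape.up ℤ) b).mapIso e.symm ≪≫
        @asIso _ _ _ _ _ (Perfect.Stupid.isIso_ι E b b le_rfl) ≪≫ eb
    have hS : P m ((DCoh.tensorCxQ L).obj S) :=
      hP.iso ((DCoh.tensorCxQ L).mapIso (e ≪≫ (HomologicalComplex.single _ _ b).mapIso eM)).symm
        (tensor_free_single hP L hL n b hm)
    have hT' := LocalTor.Split.shortExact_tensor T (fun i => (hsplit i).some) L
    exact hP.ext₂ _ (DerivedCategory.triangleOfSES_distinguished hT') hS hC

end Groth.Agent.H56.RelTensorPC
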