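import Groth.Agent.H56.RelPC.Rules
import Groth.Agent.H56.RelPC.Closed
import Groth.Agent.H56.RelPC.Transport

/-!
Relative pseudo-coherence and direct images along closed immersions.
-/

set_option autoImplicit false
set_option linter.style.haveILetI false

universe u

open CategoryTheory Limits AlgebraicGeometry TopologicalSpace

attribute [local instance] HasDerivedCategory.standard

namespace Groth.Agent.H56.RelTensorPC

open Groth.Agent.Lib Groth.Agent.Lib.Perfect.Basic Groth.Agent.Lib.Perfect.PseudoCoh RelPC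

variable {X Z S : Scheme.{u}} (i : X ⟶ Z) [IsClosedImmersion i] (q : Z ⟶ S) [LocallyOfFiniteType q]

theorem hasTest_push_iff {W : Z.Opens} (hW : IsAffineOpen W) {V : S.Opens} (hV : IsAffineOpen V)
    (hWV : W ≤ q ⁻¹ᵁ V) (hUV : i ⁻¹ᵁ W ≤ (i ≫ q) ⁻¹ᵁ V) (m : ℤ) (K : DCoh.D X) :
    HasTest (i ≫ q) (i ⁻¹ᵁ W) V hUV m K ↔ HasTest q W V hWV m ((PD i).obj K) := by
  have hU := hW.preimage i
  have hft : (q.appLE V W hWV).hom.FiniteType := LocallyOfFiniteType.finiteType_appLE q hV hW hWV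
  algebraize [(q.appLE V W hWV).hom]
  obtain ⟨n, ψ₀, hψ⟩ := Algebra.FiniteType.iff_quotient_mvPolynomial''.1 ‹_›
  let ψ : MvPolynomial (Fin n) Γ(S, V) →+* Γ(Z, W) := ψ₀.toRingHom
  have hψC : ψ.comp MvPolynomial.C = (q.appLE V W hWV).hom := RingHom.ext fun r => ψ₀.commutes r
  let φ : MvPolynomial (Fin n) Γ(S, V) →+* Γ(X, i ⁻¹ᵁ W) := (i.app W).hom.comp ψ
  have hφ : Function.Surjective φ := (i.app_surjective W hW).comp hψ
  have hφC : φ.comp MvPolynomial.C = ((i ≫ q).appLE V (i ⁻¹ᵁ W) hUV).hom := by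
    rw [RingHom.comp_assoc, hψC, Scheme.Hom.app_eq_appLE, ← CommRingCat.hom_comp,
      Scheme.Hom.appLE_comp_appLE]
  haveI := isClosedImmersion_imm hU hφ
  haveI := isClosedImmersion_imm hW (φ := ψ) hψ
  have he : (i ∣_ W) ≫ imm W ψ = imm (i ⁻¹ᵁ W) φ := by
    simp only [imm, φ, CommRingCat.ofHom_comp, CommRingCat.ofHom_hom, Spec.map_comp]
    rw [← Category.assoc, ← Scheme.Opens.toSpecΓ_naturality, Category.assoc]
  let e : (GD (imm (i ⁻¹ᵁ W) φ) (i ⁻¹ᵁ W).ι).obj K ≅ (GD (imm W ψ) W.ι).obj ((PD i).obj K) :=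
    (GDIso _ _ K).symm ≪≫ mapDerivedCongr _ (Scheme.Modules.pushforwardCongr he.symm ≪≫
        (Scheme.Modules.pushforwardComp (i ∣_ W) (imm W ψ)).symm) _ ≪≫
      (mapDerivedComp (Scheme.Modules.pushforward (i ∣_ W)) (Scheme.Modules.pushforward (imm W ψ)) _).symm ≪≫
      (PD (imm W ψ)).mapIso (restrPD i W K).symm ≪≫ GDIso _ _ _
  constructor
  · intro h
    exact ⟨Fin n, inferInstance, ψ, hψ, hψC, inferInstance,
      fun x => ((h.ringTest hU hφ hφC).2 x).of_iso e⟩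
  · intro h
    exact ⟨Fin n, inferInstance, φ, hφ, hφC, inferInstance,
      fun x => ((h.ringTest hW hψ hψC).2 x).of_iso e.symm⟩

/-- Relative pseudo-coherence is inherited by and reflected along closed immersions. -/
theorem pcRel_push_closed_iff (m : ℤ) (K : DCoh.D X) :
    DerSch.IsPseudoCoherentRel (i ≫ q) m K ↔ DerSch.IsPseudoCoherentRel q m ((PD i).obj K) := by
  constructor
  · intro h
    refine isPseudoCoherentRel_of_hasTest fun W V hWV => ?_
    exact (hasTest_push_iff i q W.2 V.2 hWV (fun x hx => hWV hx) m K).1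
      (hasTest_of_isPseudoCoherentRel h (W.2.preimage i) V.2)
  · intro h
    refine ⟨inferInstance, Set.univ, eq_top_iff.2 fun s _ => ?_, fun V _ =>
      ⟨{U : X.affineOpens | ∃ W : Z.Opens, IsAffineOpen W ∧ W ≤ q ⁻¹ᵁ (V : S.Opens) ∧
        (U : X.Opens) = i ⁻¹ᵁ W}, ?_, ?_⟩⟩
    · simp only [Opens.mem_iSup]
      obtain ⟨V, hV, hsV, -⟩ := exists_isAffineOpen_mem_and_subset (X := S) (x := s) (U := ⊤) trivial
      exact ⟨⟨V, hV⟩, trivial, hsV⟩
    · refine le_antisymm (iSup₂_le fun U ⟨W, _, hWV, hU⟩ => hU.le.trans (i.preimage_mono hWV)) fun x hx => ?_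
      obtain ⟨W, hW, hxW, hWV⟩ := exists_isAffineOpen_mem_and_subset (X := Z) (x := i x)
        (U := q ⁻¹ᵁ (V : S.Opens)) hx
      simp only [Opens.mem_iSup]
      exact ⟨⟨i ⁻¹ᵁ W, hW.preimage i⟩, ⟨W, hW, hWV, rfl⟩, hxW⟩
    · rintro ⟨U, hUa⟩ ⟨W, hW, hWV, hU⟩ hle
      change U = i ⁻¹ᵁ W at hU
      subst hU
      exact ((hasTest_push_iff i q hW V.2 hWV hle m K).2
        (hasTest_of_isPseudoCoherentRel h hW V.2)).exists_chart hUa

end Groth.Agent.H56.RelTensorPC
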