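import Groth.Agent.H56.RelTensorPC.Tensor
import Groth.Agent.H56.RelTensorPC.PushClosed
import Groth.Agent.H56.RelTensorPC.BaseChange
import Groth.Agent.H56.RelPC.FlatPull
import Groth.Agent.H56.AmpNhd.Local
import Groth.Agent.Lib.Perfect.PullPC
import Groth.Agent.Lib.DerivedOX.TensorSymm

/-!
`E ⊗^L Lf^*F` for relatively pseudo-coherent objects.
-/

set_option autoImplicit false
set_option linter.style.haveILetI false

universe u

open CategoryTheory Limits AlgebraicGeometry HomologicalComplex Pretriangulated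

attribute [local instance] HasDerivedCategory.standard

namespace Groth.Agent.H56.RelTensorPC

open Groth.Agent.Lib Groth.Agent.Lib.Perfect Groth.Agent.Lib.Perfect.Basic Groth.Agent.Lib.Perfect.Pullback
open Groth.Agent.Lib.Perfect.PseudoCoh Groth.Agent.Lib.DerivedOX RelPC

/-- Flat base change of relative pseudo-coherence along a chart. -/
theorem pcRel_pullback_chart {X T B X' T' : Scheme.{u}} {c : X ⟶ T} [IsClosedImmersion c] {r : T' ⟶ T}
    [Flat r] [LocallyOfFinitePresentation r] {c' : X' ⟶ T'} [IsClosedImmersion c'] {r' : X' ⟶ X}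
    (h : IsPullback r' c' c r) (t : T ⟶ B) [Flat t] [LocallyOfFinitePresentation t] {m : ℤ}
    {L : CochainComplex X.Modules ℤ}
    (hL : DerSch.IsPseudoCoherentRel (c ≫ t) m (DerivedCategory.Q.obj L)) :
    DerSch.IsPseudoCoherentRel (c' ≫ r ≫ t) m (DerivedCategory.Q.obj ((pC r').obj L)) := by
  have h0 : DCoh.IsPseudoCoherentD m ((PD c).obj (DerivedCategory.Q.obj L)) :=
    (isPseudoCoherentD_iff_rel (pcBase_of_flat t) m _).2 ((pcRel_push_closed_iff c t m _).1 hL)
  haveI := LeftExists.hasLpull r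
  have h1 := Perfect.PullPC.isPseudoCoherent_Lpull r h0
  obtain ⟨e₁⟩ := RelPC.nonempty_lpull_iso r ((PD c).obj (DerivedCategory.Q.obj L))
  obtain ⟨e₂⟩ := nonempty_closedBC h L
  refine (pcRel_push_closed_iff c' (r ≫ t) m _).2
    ((isPseudoCoherentD_iff_rel (pcBase_of_flat (r ≫ t)) m _).1
      ((iff_forall m _).2 fun x => ((iff_forall m _).1 h1 x).of_iso ?_))
  exact e₁ ≪≫ (FPD r).mapIso (DR.ExactPush.mapQ (Scheme.Modules.pushforward c) L) ≪≫
    DR.ExactPush.mapQ (Scheme.Modules.pullback r) _ ≪≫ DerivedCategory.Q.mapIso e₂ ≪≫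
    (DR.ExactPush.mapQ (Scheme.Modules.pushforward c') _).symm

variable {X Y S : Scheme.{u}} (f : X ⟶ Y) (g : Y ⟶ S) [LocallyOfFiniteType f] [LocallyOfFiniteType g]

/-- The tensor product with a derived pullback. -/
theorem pcRel_tensor_pullback {E : CochainComplex X.Modules ℤ} {P : CochainComplex Y.Modules ℤ}
    {a b c d m : ℤ} (hE : DerSch.IsPseudoCoherentRel f a (DerivedCategory.Q.obj E))
    (hEb : ∀ i, b < i → E.ExactAt i) (hP : DCoh.IsKFlat P) (hPd : ∀ i, d < i → IsZero (P.X i))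
    (hPc : DerSch.IsPseudoCoherentRel g c (DerivedCategory.Q.obj P))
    (had : a + d ≤ m) (hbc : b + c ≤ m) :
    DerSch.IsPseudoCoherentRel (f ≫ g) m
      (DerivedCategory.Q.obj ((DCoh.tensorCx.obj ((pC f).obj P)).obj E)) := by
  refine pcRel_of_openImms (f ≫ g) fun x => ?_
  obtain ⟨W, T, cl, t, hxW, -, _, _, _, ht⟩ := AmpNhd.exists_factor g (f x) ⊤ trivial
  let fW := f ∣_ W
  obtain ⟨V, ZT, i₀, r, hxV, -, _, _, _, hr⟩ :=
    AmpNhd.exists_factor (fW ≫ cl) (⟨x, hxW⟩ : f ⁻¹ᵁ W) ⊤ trivial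
  let c' : pullback r cl ⟶ ZT := pullback.fst r cl
  let π : pullback r cl ⟶ (W : Scheme.{u}) := pullback.snd r cl
  have hsq : IsPullback π c' cl r := (IsPullback.of_hasPullback r cl).flip
  haveI : IsClosedImmersion c' := MorphismProperty.of_isPullback hsq.flip.flip inferInstance
  haveI : Flat π := MorphismProperty.of_isPullback hsq.flip ‹Flat r›
  haveI : LocallyOfFinitePresentation π := MorphismProperty.of_isPullback hsq.flip ‹LocallyOfFinitePresentation r›
  let i : (V : Scheme.{u}) ⟶ pullback r cl := pullback.lift i₀ (V.ι ≫ fW) (by rw [hr, Category.assoc])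
  have hic : i ≫ c' = i₀ := pullback.lift_fst _ _ _
  haveI : IsClosedImmersion (i ≫ c') := hic.symm ▸ ‹IsClosedImmersion i₀›
  haveI : IsClosedImmersion i := IsClosedImmersion.of_comp i c'
  let j : (V : Scheme.{u}) ⟶ X := V.ι ≫ (f ⁻¹ᵁ W).ι
  refine ⟨V, j, inferInstance, ⟨⟨x, hxW⟩, hxV⟩, rfl, ?_⟩
  have hiπ : i ≫ π = V.ι ≫ fW := pullback.lift_snd _ _ _
  have hjf : j ≫ f = i ≫ π ≫ W.ι := by
    rw [← Category.assoc i, hiπ, Category.assoc V.ι fW, morphismRestrict_ι]; simp [j]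
  let E' := (pC j).obj E
  let A := (puC i).obj E'
  let L := (pC W.ι).obj P
  let G := (pC π).obj L
  -- the direct image is pseudo-coherent on the chart
  have hA : ∀ z, PCAt a (DerivedCategory.Q.obj A) z := by
    have h1 := pcRel_pC j f hE
    rw [hjf] at h1
    exact fun z => ((iff_forall a _).1 ((isPseudoCoherentRel_closedImmersion_iff i a _).1
      ((isPseudoCoherentRel_comp_iff (pcBase_of_flat (π ≫ W.ι))).1 h1)) z).of_iso
      (DR.ExactPush.mapQ (Scheme.Modules.pushforward i) E')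
  have hAb : ∀ k, b < k → A.ExactAt k := fun k hk =>
    ((Perfect.Lift2.exactAt_map j (hEb k hk)).of_iso ((rCIso j).app E)).map (Scheme.Modules.pushforward i)
  have hG : DCoh.IsKFlat G := KFlatPullback.isKFlat_pullback π (KFlatPullback.isKFlat_pullback W.ι hP)
  have hGd : ∀ k, d < k → IsZero (G.X k) := fun k hk =>
    (Scheme.Modules.pullback π).map_isZero ((Scheme.Modules.pullback W.ι).map_isZero (hPd k hk))
  have hGc : DerSch.IsPseudoCoherentRel (π ≫ W.ι ≫ g) c (DerivedCategory.Q.obj G) := by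
    have h1 := pcRel_pC W.ι g hPc
    rw [← ht] at h1
    have h2 := pcRel_pullback_chart hsq t h1
    rwa [← hsq.w_assoc, ht] at h2
  have hmain := pcRel_tensor (π ≫ W.ι ≫ g) hA hAb hG hGd hGc had hbc
  obtain ⟨e⟩ := Groth.Agent.S0966.nonempty_cxIso i E' G
  have h3 : DerSch.IsPseudoCoherentRel (i ≫ π ≫ W.ι ≫ g) m
      (DerivedCategory.Q.obj ((DCoh.tensorCx.obj E').obj ((pC i).obj G))) :=
    (pcRel_push_closed_iff i (π ≫ W.ι ≫ g) m _).2 (isPseudoCoherentRel_of_iso
      (DerivedCategory.Q.mapIso e ≪≫ (DR.ExactPush.mapQ (Scheme.Modules.pushforward i) _).symm) hmain)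
  have hjg : i ≫ π ≫ W.ι ≫ g = j ≫ f ≫ g := by
    rw [← Category.assoc j f g, hjf, Category.assoc, Category.assoc]
  rw [hjg] at h3
  let eG : (pC i).obj G ≅ (pC j).obj ((pC f).obj P) :=
    (pC i).mapIso ((pCComp π W.ι).app P) ≪≫ (pCComp i (π ≫ W.ι)).app P ≪≫
      eqToIso (congrArg (fun s => (pC s).obj P) hjf.symm) ≪≫ ((pCComp j f).app P).symm
  exact isPseudoCoherentRel_of_iso (DerivedCategory.Q.mapIso ((DCoh.tensorCx.obj E').mapIso eG ≪≫
    TensorSymm.commCx E' ((pC j).obj ((pC f).obj P))) ≪≫ (tensorResIso j ((pC f).obj P) E).symm) h3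

end Groth.Agent.H56.RelTensorPC
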