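import Groth.Agent.H56.RelTensorPC.Free
import Groth.Agent.H56.RelPC.Rules
import Groth.Agent.H56.RelPC.Single
import Groth.Agent.H56.RelPC.Closed
import Groth.Agent.H56.RelPC.Bridge
import Groth.Agent.Lib.WayOut.Bounded

/-!
Relative pseudo-coherence as a levelled property, and direct images along closed immersions.
-/

set_option autoImplicit false
set_option linter.style.haveILetI false

universe u

open CategoryTheory Limits AlgebraicGeometry Pretriangulated
open scoped ZeroObject

attribute [local instance] HasDerivedCategory.standard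

namespace Groth.Agent.H56.RelTensorPC

open Groth.Agent.Lib Groth.Agent.Lib.Perfect.Basic Groth.Agent.Lib.Perfect.PseudoCoh RelPC

variable {X S : Scheme.{u}} (f : X ⟶ S) [LocallyOfFiniteType f]

theorem pcRel_of_isLE {m n : ℤ} {K : DCoh.D X} [K.IsLE n] (h : n < m) :
    DerSch.IsPseudoCoherentRel f m K := by
  refine isPseudoCoherentRel_of_forall fun U hU V hV hle k φ hφ hC x => ?_
  haveI := isClosedImmersion_imm hU hφ
  exact pcAt_of_vanish (fun i hi => ((G (imm U φ) U.ι).map_isZero
    (DerivedCategory.isZero_of_isLE K n i (by omega))).of_iso (homologyGD _ _ K i)) x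

theorem closed : Closed (DerSch.IsPseudoCoherentRel f) where
  zero m := by
    haveI : (0 : DCoh.D X).IsLE (m - 1) := (DerivedCategory.isLE_iff _ _).2 fun i _ =>
      (DerivedCategory.homologyFunctor X.Modules i).map_isZero (isZero_zero _)
    exact pcRel_of_isLE f (n := m - 1) (by omega)
  mono h hm := isPseudoCoherentRel_of_forall fun U hU V hV _ k φ hφ hC x =>
    haveI := isClosedImmersion_imm hU hφ
    (pcAt_of_isPseudoCoherentRel h hU hV hφ hC x).mono' hm
  shift {m K} h n := isPseudoCoherentRel_of_forall fun U hU V hV _ k φ hφ hC x =>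
    haveI := isClosedImmersion_imm hU hφ
    ((pcAt_of_isPseudoCoherentRel h hU hV hφ hC x).shift n (m - n) (by omega)).of_iso
      (((GD (imm U φ) U.ι).commShiftIso n).app K).symm
  ext₂ {m} T hT h₁ h₃ := (isPseudoCoherentRel_distTriang m T hT).2.1 h₁ h₃
  retract {m K L} r h := isPseudoCoherentRel_of_forall fun U hU V hV _ k φ hφ hC x => by
    haveI := isClosedImmersion_imm hU hφ
    let r' := r.map (GD (imm U φ) U.ι)
    obtain ⟨Z, v, w, hT⟩ := distinguished_cocone_triangle r'.i
    have hw : w = 0 := by
      have h0 := comp_distTriang_mor_zero₃₁ _ hT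
      haveI : Mono (r'.i⟦(1 : ℤ)⟧') := SplitMono.mono ⟨r'.r⟦(1 : ℤ)⟧', by
        rw [← Functor.map_comp, r'.retract]; exact (shiftFunctor _ (1 : ℤ)).map_id _⟩
      exact (cancel_mono (r'.i⟦(1 : ℤ)⟧')).1 (h0.trans zero_comp.symm)
    obtain ⟨e, -⟩ := exists_iso_binaryBiproduct_of_distTriang _ hT hw
    exact pcAt_of_biprod _ Z (fun y => (pcAt_of_isPseudoCoherentRel h hU hV hφ hC y).of_iso e) x

/-- A level at the top degree only asks that the top cohomology is of finite type. -/
theorem pcRel_iff_of_isLE (K : DCoh.D X) (c : ℤ) [K.IsLE c] :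
    DerSch.IsPseudoCoherentRel f c K ↔ CohB1.IsFT (DCoh.HD K c) := by
  haveI := WayOut.Bounded.isLE_truncGE K c c
  haveI : ((DerivedCategory.TStructure.t.truncGE c).obj K).IsGE c :=
    (inferInstance : DerivedCategory.TStructure.t.IsGE ((DerivedCategory.TStructure.t.truncGE c).obj K) c)
  haveI : ((DerivedCategory.TStructure.t.truncLT c).obj K).IsLE (c - 1) :=
    (inferInstance : DerivedCategory.TStructure.t.IsLE ((DerivedCategory.TStructure.t.truncLT c).obj K) (c - 1))
  haveI := WayOut.Bounded.isIso_homologyMap_truncGEπ K c c le_rfl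
  let Y := (DerivedCategory.TStructure.t.truncGE c).obj K
  have hT := DerivedCategory.TStructure.t.triangleLTGE_distinguished c K
  have hlow : ∀ m : ℤ, c ≤ m → DerSch.IsPseudoCoherentRel f m ((DerivedCategory.TStructure.t.truncLT c).obj K) :=
    fun m hm => pcRel_of_isLE f (n := c - 1) (by omega)
  obtain ⟨M, ⟨e⟩⟩ := DerivedCategory.exists_iso_singleFunctor_obj_of_isGE_of_isLE Y c
  let eM : DCoh.HD K c ≅ M :=
    asIso ((DerivedCategory.homologyFunctor X.Modules c).map
      ((DerivedCategory.TStructure.t.truncGEπ c).app K)) ≪≫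
    (DerivedCategory.homologyFunctor X.Modules c).mapIso e ≪≫
    (DerivedCategory.singleFunctorCompHomologyFunctorIso X.Modules c).app M
  let es : Y ≅ (DCoh.inD X M)⟦-c⟧ :=
    e ≪≫ (((DerivedCategory.singleFunctors X.Modules).shiftIso (-c) c 0 (by omega)).app M).symm
  have key : DerSch.IsPseudoCoherentRel f c Y ↔ CohB1.IsFT (DCoh.HD K c) := by
    constructor
    · intro h
      have h' := (closed f).shift (isPseudoCoherentRel_of_iso es h) c
      rw [sub_self] at h'
      exact @Modules.SupportOps.isFT_of_iso _ _ _ eM.symm ((isPseudoCoherentRel_inD_zero_iff M).1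
        (isPseudoCoherentRel_of_iso
          ((shiftFunctorCompIsoId (DCoh.D X) (-c) c (by omega)).app (DCoh.inD X M)) h'))
    · intro h
      have h' := (closed f).shift ((isPseudoCoherentRel_inD_zero_iff (f := f) M).2
        (@Modules.SupportOps.isFT_of_iso _ _ _ eM h)) (-c)
      rw [zero_sub, neg_neg] at h'
      exact isPseudoCoherentRel_of_iso es.symm h'
  rw [← key]
  exact ⟨fun h => (isPseudoCoherentRel_distTriang c _ hT).1 (hlow _ (by omega)) h,
    fun h => (isPseudoCoherentRel_distTriang c _ hT).2.1 (hlow _ le_rfl) h⟩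

end Groth.Agent.H56.RelTensorPC
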