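import Groth.Agent.H56.RelTensorPC.Rel
import Groth.Agent.Lib.LocalTor.Coherent
import Groth.Agent.Lib.LocalTor.Main
import Groth.Agent.Lib.Perfect.PerfAmp
import Groth.Agent.Lib.Perfect.EulerChar
import Groth.Agent.Lib.DerivedOX.KFlatPullback

/-!
Tensor product of a pseudo-coherent complex with a relatively pseudo-coherent one.
-/

set_option autoImplicit false
set_option linter.style.haveILetI false

universe u

open CategoryTheory Limits AlgebraicGeometry HomologicalComplex Pretriangulated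

attribute [local instance] HasDerivedCategory.standard

namespace Groth.Agent.H56.RelTensorPC

open Groth.Agent.Lib Groth.Agent.Lib.Perfect Groth.Agent.Lib.Perfect.Basic Groth.Agent.Lib.Perfect.Pullback
open Groth.Agent.Lib.Perfect.PseudoCoh Groth.Agent.Lib.DerivedOX RelPC
open Groth.Agent.Lib.LocalTor

variable {X S : Scheme.{u}}

/-- Relative pseudo-coherence is local for open immersions. -/
theorem pcRel_of_openImms (f : X ⟶ S) [LocallyOfFiniteType f] {m : ℤ} {K : DCoh.D X}
    (h : ∀ x : X, ∃ (U : Scheme.{u}) (j : U ⟶ X) (_ : IsOpenImmersion j) (y : U),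
      j y = x ∧ DerSch.IsPseudoCoherentRel (j ≫ f) m ((RD j).obj K)) :
    DerSch.IsPseudoCoherentRel f m K := by
  refine isPseudoCoherentRel_of_openCover fun x => ?_
  obtain ⟨U, j, _, y, hy, hU⟩ := h x
  refine ⟨j.opensRange, ⟨y, hy⟩, ?_⟩
  have h' := isPseudoCoherentRel_restrict hU j.isoOpensRange.inv
  rw [← Category.assoc, Scheme.Hom.isoOpensRange_inv_comp] at h'
  exact isPseudoCoherentRel_of_iso ((Perfect.Triangle.RDComp j.isoOpensRange.inv j K).symm ≪≫
    Perfect.Triangle.RDCongr (Scheme.Hom.isoOpensRange_inv_comp j) K) h'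

/-- Restriction of a tensor product of complexes. -/
noncomputable def tensorResIso {U : Scheme.{u}} (j : U ⟶ X) [IsOpenImmersion j]
    (A B : CochainComplex X.Modules ℤ) :
    (RD j).obj (DerivedCategory.Q.obj ((DCoh.tensorCx.obj A).obj B)) ≅
      DerivedCategory.Q.obj ((DCoh.tensorCx.obj ((pC j).obj A)).obj ((pC j).obj B)) :=
  RDQ j _ ≪≫ DerivedCategory.Q.mapIso ((rCIso j).app _ ≪≫ (Perfect.Tensor.pullTensorIso j A B).symm)

theorem pcRel_pC {U : Scheme.{u}} (j : U ⟶ X) [IsOpenImmersion j] (f : X ⟶ S)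
    {G : CochainComplex X.Modules ℤ} {c : ℤ} (h : DerSch.IsPseudoCoherentRel f c (DerivedCategory.Q.obj G)) :
    DerSch.IsPseudoCoherentRel (j ≫ f) c (DerivedCategory.Q.obj ((pC j).obj G)) :=
  isPseudoCoherentRel_of_iso (RDQ j G ≪≫ DerivedCategory.Q.mapIso ((rCIso j).app G))
    (isPseudoCoherentRel_restrict h j)

variable (f : X ⟶ S) [LocallyOfFiniteType f]

theorem pcRel_tensor_perfect {G : CochainComplex X.Modules ℤ} (hG : DCoh.IsKFlat G) {b c m : ℤ}
    (hGc : DerSch.IsPseudoCoherentRel f c (DerivedCategory.Q.obj G)) {E : CochainComplex X.Modules ℤ}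
    (hE : DCoh.IsStrictlyPerfect E) (hex : ∀ i, b < i → E.ExactAt i) (hm : c + b ≤ m) :
    DerSch.IsPseudoCoherentRel f m (DerivedCategory.Q.obj ((DCoh.tensorCx.obj E).obj G)) := by
  obtain ⟨lo, hi, hv⟩ := id hE.1
  have hle : E.IsLE b := (CochainComplex.isLE_iff E b).2 hex
  haveI : QuasiIso (E.ιTruncLE b) := (E.quasiIso_ιTruncLE_iff b).2 hle
  haveI := LeftExists.quasiIso_tensor_right hG (E.ιTruncLE b)
  refine isPseudoCoherentRel_of_iso (asIso (DerivedCategory.Q.map ((DCoh.tensorCx.map (E.ιTruncLE b)).app G))) ?_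
  let eb : (E.truncLE b).X b ≅ kernel (E.d b (b + 1)) :=
    HomologicalComplex.truncLEXIsoCycles E (ComplexShape.embeddingUpIntLE b) (i := 0) (i' := b)
      (by simp) (by rw [ComplexShape.boundaryLE_embeddingUpIntLE_iff]) ≪≫
      IsLimit.conePointUniqueUpToIso (E.cyclesIsKernel b (b + 1) (by simp)) (limit.isLimit _)
  let T := E.truncLE b
  let lo' := min lo b
  have hTv : ∀ i, i < lo' ∨ b < i → IsZero (T.X i) := fun i hi => by
    rcases hi with hi | hi
    · exact (hv i (Or.inl (by omega))).of_iso (E.truncLEXIso b i (by omega))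
    · exact (E.truncLE b).isZero_of_isStrictlyLE b i hi
  have hT : DCoh.IsStrictlyPerfect T := by
    refine ⟨⟨lo', b, hTv⟩, fun i => ?_⟩
    rcases lt_trichotomy i b with h | h | h
    · exact TensorMod.LocFree.of_iso (E.truncLEXIso b i h).symm (hE.2 i)
    · subst h
      exact TensorMod.LocFree.of_iso eb.symm (Perfect.Top.isFinLocFree_cycles hE i hex i le_rfl)
    · exact Perfect.Stupid.isFinLocFree_isZero (hTv i (Or.inr h))
  refine pcRel_of_openImms f fun x => ?_
  obtain ⟨V, n, hxV, -, hn⟩ := Perfect.EulerChar.exists_free_terms hT x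
  refine ⟨_, V.ι, inferInstance, ⟨x, hxV⟩, rfl, isPseudoCoherentRel_of_iso (tensorResIso V.ι T G).symm ?_⟩
  exact tensor_free (closed (V.ι ≫ f)) ((pC V.ι).obj G) (pcRel_pC V.ι f hGc) ((pC V.ι).obj T) lo' b hm
    (fun i hi => (Scheme.Modules.pullback V.ι).map_isZero (hTv i hi))
    fun i _ _ => ⟨n i, ⟨((Scheme.Modules.restrictFunctorIsoPullback V.ι).app (T.X i)).symm ≪≫ (hn i).some⟩⟩

/-- Tensor product of an `a`-pseudo-coherent complex of cohomological degrees `≤ b` with a relatively
`c`-pseudo-coherent flat complex of degrees `≤ d`. -/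
theorem pcRel_tensor {A G : CochainComplex X.Modules ℤ} {a b c d m : ℤ}
    (hA : ∀ x, PCAt a (DerivedCategory.Q.obj A) x) (hAb : ∀ i, b < i → A.ExactAt i)
    (hG : DCoh.IsKFlat G) (hGd : ∀ i, d < i → IsZero (G.X i))
    (hGc : DerSch.IsPseudoCoherentRel f c (DerivedCategory.Q.obj G))
    (had : a + d ≤ m) (hbc : b + c ≤ m) :
    DerSch.IsPseudoCoherentRel f m (DerivedCategory.Q.obj ((DCoh.tensorCx.obj A).obj G)) := by
  by_cases hab : b < a
  · haveI : (DerivedCategory.Q.obj ((DCoh.tensorCx.obj A).obj G)).IsLE (b + d) :=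
      LocalTor.Main.isLE_toD (b + d) fun i hi =>
        Coherent.exactAt_tensor A G (b + 1) d (fun j hj => hAb j (by omega)) hGd hG i (by omega)
    exact pcRel_of_isLE f (n := b + d) (by omega)
  refine pcRel_of_openImms f fun x => ?_
  obtain ⟨U, j, _, y, E, φ, hy, hE, hφ⟩ := Coherent.exists_model A a x (hA x)
  refine ⟨U, j, inferInstance, y, hy, isPseudoCoherentRel_of_iso (tensorResIso j A G).symm ?_⟩
  let A' := (pC j).obj A
  let G' := (pC j).obj G
  have hG' : DCoh.IsKFlat G' := KFlatPullback.isKFlat_pullback j hG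
  have hG'd : ∀ i, d < i → IsZero (G'.X i) := fun i hi =>
    (Scheme.Modules.pullback j).map_isZero (hGd i hi)
  have hA' : ∀ i, b < i → A'.ExactAt i := fun i hi =>
    (Perfect.Lift2.exactAt_map j (hAb i hi)).of_iso ((rCIso j).app A)
  let E' := E⟦(1 : ℤ)⟧
  have hs : (Split.coneSeq φ).ShortExact := HomologicalComplex.shortExact_of_degreewise_shortExact _
    fun n => (Split.coneSplitting φ n).shortExact
  have hE'ex : ∀ i, b - 1 < i → E'.ExactAt i := fun i hi => by
    rw [exactAt_iff_isZero_homology]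
    exact (hs.homology_exact₃ i (i + 1) rfl).isZero_X₂
      ((((exactAt_iff_isZero_homology _ _).1 (hφ i (by omega)))).eq_of_src _ _)
      ((((exactAt_iff_isZero_homology _ _).1 (hA' (i + 1) (by omega)))).eq_of_tgt _ _)
  have hT := DerivedCategory.triangleOfSES_distinguished
    (Split.shortExact_tensor (Split.coneSeq φ) (Split.coneSplitting φ) G')
  refine (isPseudoCoherentRel_distTriang (f := j ≫ f) m _ hT).2.2 ?_ ?_
  · haveI : (DerivedCategory.Q.obj ((DCoh.tensorCx.obj (CochainComplex.mappingCone φ)).obj G')).IsLE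
        (a + d - 1) := LocalTor.Main.isLE_toD (a + d - 1) fun i hi =>
      Coherent.exactAt_tensor _ G' a d hφ hG'd hG' i (by omega)
    exact pcRel_of_isLE (j ≫ f) (K := DerivedCategory.Q.obj ((DCoh.tensorCx.obj (CochainComplex.mappingCone φ)).obj G'))
      (n := a + d - 1) (by omega)
  · exact pcRel_tensor_perfect (j ≫ f) hG' (pcRel_pC j f hGc)
      (Perfect.Triangle.isStrictlyPerfect_shift hE 1) hE'ex (by omega)

end Groth.Agent.H56.RelTensorPC
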