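import Groth.Agent.H56.RelTensorPC.Derived
import Groth.Agent.H56.RelPC.FlatPull
import Groth.Agent.Lib.BettiExact.TorProduct
import Groth.Agent.Lib.BettiExact.TorPush

/-!
Tor independent base change of relative pseudo-coherence.
-/

set_option autoImplicit false
set_option linter.style.haveILetI false

universe u

open CategoryTheory Limits AlgebraicGeometry HomologicalComplex

attribute [local instance] HasDerivedCategory.standard

namespace Groth.Agent.H56.RelTensorPC

open Groth.Agent.Lib Groth.Agent.Lib.DR Groth.Agent.Lib.DR.Basic Groth.Agent.Lib.DR.FiniteComplex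
  Groth.Agent.Lib.DR.PseudoCoherent Groth.Agent.Lib.DR.BaseChange
open Groth.Agent.Lib.DerivedOX Groth.Agent.Lib.Modules StalkModule KFlatBaseChange
open Groth.Agent.Lib.BettiExact TorTensor TorPull TorBaseChange TorProduct

section Indep

variable {S T S' T' : Scheme.{u}} {τ : T ⟶ S} {σ : S' ⟶ S} {r : T' ⟶ T} {τ' : T' ⟶ S'}

/-- Base change of a quasi-isomorphism between complexes K-flat over the base. -/
theorem quasiIso_pbC_of_indep (hT : IsPullback r τ' τ σ) {K K' : CochainComplex T.Modules ℤ} (v : K ⟶ K')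
    [QuasiIso v]
    (hK : ∀ t, DRing.IsKFlat (S.presheaf.stalk (τ t)) ((resC (τ.stalkMap t).hom).obj ((stC t).obj K)))
    (hK' : ∀ t, DRing.IsKFlat (S.presheaf.stalk (τ t)) ((resC (τ.stalkMap t).hom).obj ((stC t).obj K'))) :
    QuasiIso ((pbC r).map v) := by
  rw [Qis.quasiIso_iff_forall_stalk]
  intro t'
  obtain ⟨θ, hθ, hA, -⟩ := StalkTensor.exists_flat_map hT t'
  haveI hv : QuasiIso ((stC (r t')).map v) :=
    (Qis.quasiIso_iff_forall_stalk v).1 inferInstance (r t')
  have h := quasiIso_ext_of_indep (τ.stalkMap (r t')).hom (StalkTensor.baseMap hT t') θ hθ ((stC (r t')).map v)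
    (hK _) (hK' _)
  rw [hA] at h
  let e := NatIso.mapHomologicalComplex (PullbackStalk.pullbackStalkIso r t') (ComplexShape.up ℤ)
  exact (quasiIso_iff_of_arrow_mk_iso ((extC (r.stalkMap t').hom).map ((stC (r t')).map v))
    ((stC t').map ((pbC r).map v)) (((Functor.mapArrowFunctor _ _).mapIso e).app (Arrow.mk v))).1 h

/-- Stalks of a closed direct image over the base. -/
theorem isKFlat_stalk_push {X : Scheme.{u}} (c : X ⟶ T) [IsClosedImmersion c] [Flat (c ≫ τ)]
    {L : CochainComplex X.Modules ℤ} (hL : DCoh.IsKFlat L) (t : T) :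
    DRing.IsKFlat (S.presheaf.stalk (τ t)) ((resC (τ.stalkMap t).hom).obj ((stC t).obj ((puC c).obj L))) := by
  by_cases ht : t ∈ Set.range c
  · obtain ⟨x, rfl⟩ := ht
    exact StalkCx.isKFlat_of_iso ((resC (τ.stalkMap (c x)).hom).mapIso
      ((NatIso.mapHomologicalComplex (TorPush.pushStalkIso c x) (ComplexShape.up ℤ)).app L) ≪≫
        stOverCompIso c τ x L).symm
      (isKFlat_res_of_flat _ (Flat.stalkMap (c ≫ τ) x) ((KFlatStalk.isKFlat_iff_stalk L).1 hL x))
  · have hz : ∀ i, IsZero (((resC (τ.stalkMap t).hom).obj ((stC t).obj ((puC c).obj L))).X i) := fun i =>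
      (resF (τ.stalkMap t).hom).map_isZero (by
        haveI := PushClosed.Unit.subsingleton_stalk_push c (L.X i) ht
        exact @ModuleCat.isZero_of_subsingleton _ _ _ this)
    exact KFlat.isKFlat_of_flat _ 0 (fun i _ => hz i) fun i => good_flat.zero (hz i)

/-- Stalks of a K-flat complex over the base. -/
theorem isKFlat_stalk_base [Flat τ] {P : CochainComplex T.Modules ℤ} (hP : DCoh.IsKFlat P) (t : T) :
    DRing.IsKFlat (S.presheaf.stalk (τ t)) ((resC (τ.stalkMap t).hom).obj ((stC t).obj P)) :=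
  isKFlat_res_of_flat _ (Flat.stalkMap τ t) ((KFlatStalk.isKFlat_iff_stalk P).1 hP t)

/-- Derived base change along a closed immersion, for schemes flat over the base. -/
theorem nonempty_indepBC (hT : IsPullback r τ' τ σ) [Flat τ] {X X' : Scheme.{u}} {c : X ⟶ T}
    [IsClosedImmersion c] [Flat (c ≫ τ)] {c' : X' ⟶ T'} [IsClosedImmersion c'] {r' : X' ⟶ X}
    (h : IsPullback r' c' c r) [DCoh.HasLpull r] {L : CochainComplex X.Modules ℤ} (hL : DCoh.IsKFlat L) :
    Nonempty ((DCoh.Lpull r).obj ((RelPC.PD c).obj (DerivedCategory.Q.obj L)) ≅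
      (RelPC.PD c').obj (DerivedCategory.Q.obj ((Perfect.Pullback.pC r').obj L))) := by
  let C := (puC c).obj L
  let P := (KFlat.res T).obj C
  have hP : DCoh.IsKFlat P := KFlat.isKFlat_res C
  haveI : QuasiIso ((KFlat.aug T).app C) := KFlat.quasiIso_aug C
  haveI := quasiIso_pbC_of_indep hT ((KFlat.aug T).app C) (isKFlat_stalk_base hP) (isKFlat_stalk_push c hL)
  obtain ⟨eL⟩ := TorPull.nonempty_lpull_iso r hP
  obtain ⟨e₂⟩ := nonempty_closedBC h L
  exact ⟨(DCoh.Lpull r).mapIso (DR.ExactPush.mapQ (Scheme.Modules.pushforward c) L ≪≫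
      (asIso (DerivedCategory.Q.map ((KFlat.aug T).app C))).symm) ≪≫ eL ≪≫
    asIso (DerivedCategory.Q.map ((pbC r).map ((KFlat.aug T).app C))) ≪≫ DerivedCategory.Q.mapIso e₂ ≪≫
    (DR.ExactPush.mapQ (Scheme.Modules.pushforward c') _).symm⟩

end Indep

open RelPC Groth.Agent.Lib.Perfect.Basic Groth.Agent.Lib.Perfect.Pullback Groth.Agent.Lib.Perfect.PseudoCoh

variable {S S' X Y X' Y' : Scheme.{u}}

/-- Relative pseudo-coherence under a Tor independent base change: source and target are flat over `S`. -/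
theorem pcRel_lpull_indep {f : X ⟶ Y} [LocallyOfFiniteType f] {u : Y' ⟶ Y} {p : X' ⟶ X} {f' : X' ⟶ Y'}
    (hsq : IsPullback p f' f u) {q : Y ⟶ S} {σ : S' ⟶ S} {q' : Y' ⟶ S'} (hY : IsPullback u q' q σ)
    [Flat q] [Flat (f ≫ q)] [DCoh.HasLpull p] {m : ℤ} {E : DCoh.D X}
    (hE : DerSch.IsPseudoCoherentRel f m E) :
    DerSch.IsPseudoCoherentRel f' m ((DCoh.Lpull p).obj E) := by
  haveI : LocallyOfFiniteType f' := MorphismProperty.of_isPullback hsq ‹LocallyOfFiniteType f›
  refine pcRel_of_openImms f' fun x' => ?_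
  obtain ⟨W, T, cl, t, hxW, -, _, _, _, ht⟩ := AmpNhd.exists_factor f (p x') ⊤ trivial
  let P := (KFlat.res X).obj (DerivedCategory.Q.objPreimage E)
  have hP : DCoh.IsKFlat P := KFlat.isKFlat_res _
  haveI : QuasiIso ((KFlat.aug X).app (DerivedCategory.Q.objPreimage E)) := KFlat.quasiIso_aug _
  let eP : DCoh.toD X P ≅ E := asIso (DerivedCategory.Q.map ((KFlat.aug X).app _)) ≪≫
    DerivedCategory.Q.objObjPreimageIso E
  obtain ⟨eL⟩ := TorPull.nonempty_lpull_iso p hP
  let L := (pC W.ι).obj P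
  have hL : DCoh.IsKFlat L := KFlatPullback.isKFlat_pullback W.ι hP
  let r : pullback t u ⟶ T := pullback.fst t u
  let t' : pullback t u ⟶ Y' := pullback.snd t u
  have hT : IsPullback r (t' ≫ q') (t ≫ q) σ := (IsPullback.of_hasPullback t u).paste_vert hY
  haveI : Flat t' := MorphismProperty.of_isPullback (IsPullback.of_hasPullback t u) ‹Flat t›
  haveI : LocallyOfFinitePresentation t' :=
    MorphismProperty.of_isPullback (IsPullback.of_hasPullback t u) ‹LocallyOfFinitePresentation t›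
  let pW := p ∣_ W
  let j : ((p ⁻¹ᵁ W : X'.Opens) : Scheme.{u}) ⟶ X' := (p ⁻¹ᵁ W).ι
  have houter : IsPullback pW (j ≫ f') (cl ≫ t) u := by
    rw [ht]
    exact (isPullback_morphismRestrict p W).paste_vert hsq
  let c' : ((p ⁻¹ᵁ W : X'.Opens) : Scheme.{u}) ⟶ pullback t u :=
    pullback.lift (pW ≫ cl) (j ≫ f') (by rw [Category.assoc, houter.w])
  have hc't : c' ≫ t' = j ≫ f' := pullback.lift_snd _ _ _
  have hc : IsPullback pW c' cl r := IsPullback.of_bot (hc't.symm ▸ houter)
    (pullback.lift_fst _ _ _).symm (IsPullback.of_hasPullback t u)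
  haveI : IsClosedImmersion c' := MorphismProperty.of_isPullback hc ‹IsClosedImmersion cl›
  haveI : Flat (cl ≫ t ≫ q) := by
    rw [← Category.assoc, ht, Category.assoc]; infer_instance
  haveI := LeftExists.hasLpull r
  obtain ⟨eBC⟩ := nonempty_indepBC hT hc hL
  have hLc : DerSch.IsPseudoCoherentRel (cl ≫ t) m (DerivedCategory.Q.obj L) := by
    rw [ht]
    exact pcRel_pC W.ι f (isPseudoCoherentRel_of_iso eP.symm hE)
  have h1 := Perfect.PullPC.isPseudoCoherent_Lpull r
    ((isPseudoCoherentD_iff_rel (pcBase_of_flat t) m _).2 ((pcRel_push_closed_iff cl t m _).1 hLc))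
  have h2 := (pcRel_push_closed_iff c' t' m (DerivedCategory.Q.obj ((pC pW).obj L))).2
    ((isPseudoCoherentD_iff_rel (pcBase_of_flat t') m _).1
      ((iff_forall m _).2 fun x => ((iff_forall m _).1 h1 x).of_iso eBC))
  rw [hc't] at h2
  refine ⟨_, j, inferInstance, ⟨x', hxW⟩, rfl, ?_⟩
  exact isPseudoCoherentRel_of_iso (DerivedCategory.Q.mapIso ((pCComp pW W.ι).app P ≪≫
      eqToIso (congrArg (fun s => (pC s).obj P) (morphismRestrict_ι p W)) ≪≫
      ((pCComp j p).app P).symm ≪≫ ((rCIso j).app _).symm) ≪≫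
    (RDQ j _).symm ≪≫ (RD j).mapIso (eL.symm ≪≫ (DCoh.Lpull p).mapIso eP)) h2

end Groth.Agent.H56.RelTensorPC
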